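import Groth.Agent.Pi1.H6.SurfNF

/-!
# Normal form: removing a handle
-/

set_option autoImplicit false

universe u v w

namespace Groth.Agent.Pi1.H6.SurfNFC

open Groth.Agent.Pi1.H6.SurfWord Groth.Agent.Pi1.H6.SurfNF

variable {α : Type u} {J : Type v} [DecidableEq α] [DecidableEq J] {S : Finset α}
  {ws : J → List (α × Bool)} {j₀ : J} {x y : α × Bool} {A₁ A₂ B C D E : List (α × Bool)}

lemma countC (h : ∀ d : α × Bool, ∑ j ∈ {j₀}, (ws j).count d = if d.1 ∈ S then 1 else 0)
    (hxS : x.1 ∈ S) (hyS : y.1 ∈ S) (hxy : x.1 ≠ y.1)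
    (e1 : ws j₀ = A₁ ++ x :: A₂)
    (e2 : A₂ ++ A₁ = B ++ y :: (C ++ opp x :: (D ++ opp y :: E))) (d' : α × Bool) :
    ∑ j ∈ {j₀}, (Function.update ws j₀ (E ++ D ++ C ++ B) j).count d' =
      if d'.1 ∈ (S.erase x.1).erase y.1 then 1 else 0 := by
  have hs := h d'
  rw [Finset.sum_singleton] at hs ⊢
  rw [Function.update_self]
  have e3 := congrArg (List.count d') e2
  rw [e1] at hs
  simp only [List.count_append, List.count_cons, beq_iff_eq] at hs e3 ⊢
  by_cases hc : d'.1 = x.1
  · rw [if_neg (by rw [hc]; simp)]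
    have hS : d'.1 ∈ S := by rw [hc]; exact hxS
    rw [if_pos hS] at hs
    rcases eq_or_eq_opp hc with h3 | h3
    · rw [if_pos h3.symm] at hs
      omega
    · rw [if_pos h3.symm] at e3
      omega
  by_cases hc' : d'.1 = y.1
  · rw [if_neg (by rw [hc']; simp)]
    have hS : d'.1 ∈ S := by rw [hc']; exact hyS
    rw [if_pos hS] at hs
    rcases eq_or_eq_opp hc' with h3 | h3
    · rw [if_pos h3.symm] at e3
      omega
    · have h4 : (if opp y = d' then 1 else 0) = 1 := if_pos h3.symm
      rw [h4] at e3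
      omega
  · have hc1 : ¬ x = d' := fun h => hc (by rw [h])
    have hc2 : ¬ opp x = d' := fun h => hc (by rw [← h]; rfl)
    have hc3 : ¬ y = d' := fun h => hc' (by rw [h])
    have hc4 : ¬ opp y = d' := fun h => hc' (by rw [← h]; rfl)
    rw [if_neg hc1] at hs
    rw [if_neg hc2, if_neg hc3, if_neg hc4] at e3
    have : d'.1 ∈ (S.erase x.1).erase y.1 ↔ d'.1 ∈ S := by
      rw [Finset.mem_erase, Finset.mem_erase]
      exact ⟨fun h => h.2.2, fun h => ⟨hc', hc, h⟩⟩
    simp only [this]
    omega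

lemma rgC (h : RG S {j₀} ws) (hxy : x.1 ≠ y.1) (e1 : ws j₀ = A₁ ++ x :: A₂)
    (e2 : A₂ ++ A₁ = B ++ y :: (C ++ opp x :: (D ++ opp y :: E))) :
    RG ((S.erase x.1).erase y.1) {j₀} (Function.update ws j₀ (E ++ D ++ C ++ B)) := by
  have hj₀ : j₀ ∈ ({j₀} : Finset J) := Finset.mem_singleton_self _
  have hxS : x.1 ∈ S := mem_of_count h.count hj₀ (by rw [e1]; simp)
  have hyS : y.1 ∈ S := by
    have hy : y ∈ A₂ ++ A₁ := by rw [e2]; simp
    refine mem_of_count h.count hj₀ (d := y) ?_
    rw [e1]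
    rw [List.mem_append] at hy
    rcases hy with hy | hy <;> simp [hy]
  have hcnt := countC h.count hxS hyS hxy e1 e2
  have hlet : ∀ z ∈ E ++ D ++ C ++ B, z.1 ≠ x.1 ∧ z.1 ≠ y.1 := by
    intro z hz
    have := mem_of_count hcnt hj₀ (d := z) (by rw [Function.update_self]; exact hz)
    rw [Finset.mem_erase, Finset.mem_erase] at this
    exact ⟨this.2.1, this.1⟩
  refine ⟨⟨j₀, hj₀⟩, hcnt, ?_, ?_⟩
  · intro f hf a b ha hb
    obtain ⟨p, hp⟩ := hf j₀ hj₀
    rw [Function.update_self] at hp
    obtain ⟨p₃, hp, hpB⟩ := (isPath_append _ _ _ _ _).1 hp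
    obtain ⟨p₂, hp, hpC⟩ := (isPath_append _ _ _ _ _).1 hp
    obtain ⟨p₁, hpE, hpD⟩ := (isPath_append _ _ _ _ _).1 hp
    let f' : α × Bool → Prop := fun z => if z = x then p₁ else if z = opp x then p₃ else
      if z = y then p else if z = opp y then p₂ else f z
    have hyx : y ≠ x := fun h => hxy (by rw [h])
    have hyx' : y ≠ opp x := fun h => hxy (by rw [h]; rfl)
    have hyx'' : opp y ≠ x := fun h => hxy (by rw [← h]; rfl)
    have hyx''' : opp y ≠ opp x := fun h => hxy (by have := congrArg Prod.fst h; exact this.symm)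
    have fx : f' x = p₁ := if_pos rfl
    have fx' : f' (opp x) = p₃ := by
      change (if opp x = x then p₁ else if opp x = opp x then p₃ else _) = p₃
      rw [if_neg (opp_ne x), if_pos rfl]
    have fy : f' y = p := by
      change (if y = x then p₁ else if y = opp x then p₃ else
        if y = y then p else _) = p
      rw [if_neg hyx, if_neg hyx', if_pos rfl]
    have fy' : f' (opp y) = p₂ := by
      change (if opp y = x then p₁ else if opp y = opp x then p₃ else
        if opp y = y then p else if opp y = opp y then p₂ else _) = p₂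
      rw [if_neg hyx'', if_neg hyx''', if_neg (opp_ne y), if_pos rfl]
    have fne : ∀ z : α × Bool, z.1 ≠ x.1 ∧ z.1 ≠ y.1 → f' z = f z := by
      intro z hz
      change (if z = x then p₁ else if z = opp x then p₃ else
        if z = y then p else if z = opp y then p₂ else f z) = f z
      rw [if_neg (fun h => hz.1 (by rw [h])), if_neg (fun h => hz.1 (by rw [h]; rfl)),
        if_neg (fun h => hz.2 (by rw [h])), if_neg (fun h => hz.2 (by rw [h]; rfl))]
    have hcongr : ∀ (l : List (α × Bool)) (p q : Prop), (∀ z ∈ l, z.1 ≠ x.1 ∧ z.1 ≠ y.1) →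
        IsPath f p l q → IsPath f' p l q := fun l p q hl hpq =>
      hpq.congr fun z hz => ⟨(fne z (hl z hz)).symm, (fne (opp z) (hl z hz)).symm⟩
    have hpath : IsPath f' p₁ (x :: (A₂ ++ A₁)) p₁ := by
      rw [e2, isPath_cons, fx, fx']
      refine ⟨rfl, ?_⟩
      rw [isPath_append]
      refine ⟨p, hcongr _ _ _ (fun z hz => hlet z (by simp [hz])) hpB, ?_⟩
      rw [isPath_cons, fy, fy', isPath_append]
      refine ⟨rfl, p₃, hcongr _ _ _ (fun z hz => hlet z (by simp [hz])) hpC, ?_⟩
      rw [isPath_cons, opp_opp, fx, fx', isPath_append]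
      refine ⟨rfl, p₂, hcongr _ _ _ (fun z hz => hlet z (by simp [hz])) hpD, ?_⟩
      rw [isPath_cons, opp_opp, fy, fy']
      exact ⟨rfl, hcongr _ _ _ (fun z hz => hlet z (by simp [hz])) hpE⟩
    have key := h.oneV f' (by
      intro j hj
      obtain rfl := Finset.mem_singleton.1 hj
      rw [e1]
      exact exists_isPath_rotate (l := x :: A₂) (l' := A₁) ⟨p₁, hpath⟩) a b
      (Finset.mem_of_mem_erase (Finset.mem_of_mem_erase ha))
      (Finset.mem_of_mem_erase (Finset.mem_of_mem_erase hb))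
    rw [Finset.mem_erase, Finset.mem_erase] at ha hb
    rwa [fne a ⟨ha.2.1, ha.1⟩, fne b ⟨hb.2.1, hb.1⟩] at key
  · by_cases hW : E ++ D ++ C ++ B = []
    · right
      refine ⟨?_, Finset.card_singleton _⟩
      rw [Finset.eq_empty_iff_forall_notMem]
      intro a ha
      obtain ⟨j, hj, hj'⟩ := exists_mem_of_count hcnt (d := (a, true)) ha
      obtain rfl := Finset.mem_singleton.1 hj
      rw [Function.update_self, hW] at hj'
      simp at hj'
    · left
      intro j hj
      obtain rfl := Finset.mem_singleton.1 hj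
      rwa [Function.update_self]

lemma stdC (hxS : x.1 ∈ S) (hyS : y.1 ∈ S) (hxy : x.1 ≠ y.1) (e1 : ws j₀ = A₁ ++ x :: A₂)
    (e2 : A₂ ++ A₁ = B ++ y :: (C ++ opp x :: (D ++ opp y :: E)))
    (hlet : ∀ z ∈ E ++ D ++ C ++ B, z.1 ∈ (S.erase x.1).erase y.1)
    (hStd : Std.{u, v, w} ((S.erase x.1).erase y.1) {j₀}
      (Function.update ws j₀ (E ++ D ++ C ++ B))) :
    Std.{u, v, w} S {j₀} ws := by
  obtain ⟨g, X, Y, L, h, hL, hLT, hcard, hX, hY, hh, hR, hU⟩ := hStd
  have hj₀ : j₀ ∈ ({j₀} : Finset J) := Finset.mem_singleton_self _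
  have sub : ∀ {z : α}, z ∈ (S.erase x.1).erase y.1 → z ∈ S := fun hz =>
    Finset.mem_of_mem_erase (Finset.mem_of_mem_erase hz)
  have hA₁ : ∀ z ∈ A₁, z.1 ∈ S := by
    intro z hz
    have hz' : z ∈ A₂ ++ A₁ := by simp [hz]
    rw [e2] at hz'
    simp only [List.mem_append, List.mem_cons] at hz'
    rcases hz' with hz' | rfl | hz' | rfl | hz' | rfl | hz'
    · exact sub (hlet z (by simp [hz']))
    · exact hyS
    · exact sub (hlet z (by simp [hz']))
    · exact hxS
    · exact sub (hlet z (by simp [hz']))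
    · exact hyS
    · exact sub (hlet z (by simp [hz']))
  -- new words
  let X₀ : List (α × Bool) := h j₀ ++ (y :: (C ++ B)) ++ rv (h j₀)
  let Y₀ : List (α × Bool) := h j₀ ++ rv (D ++ C ++ B) ++ (x :: B) ++ rv (h j₀)
  let k : J → List (α × Bool) := fun _ => h j₀ ++ E ++ rv A₁
  have evX₀ : ∀ {G : Type w} [Group G] (s : α → G), ev s X₀ =
      ev s (h j₀) * (evd s y * ev s C * ev s B) * (ev s (h j₀))⁻¹ := by
    intro G _ s
    change ev s (h j₀ ++ (y :: (C ++ B)) ++ rv (h j₀)) = _
    simp only [ev_append, ev_cons, ev_rv]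
    group
  have evY₀ : ∀ {G : Type w} [Group G] (s : α → G), ev s Y₀ =
      ev s (h j₀) * ((ev s D * ev s C * ev s B)⁻¹ * (evd s x * ev s B)) * (ev s (h j₀))⁻¹ := by
    intro G _ s
    change ev s (h j₀ ++ rv (D ++ C ++ B) ++ (x :: B) ++ rv (h j₀)) = _
    simp only [ev_append, ev_cons, ev_rv]
    group
  have cW : ∀ {G : Type w} [Group G] (s : α → G),
      ev s (k j₀) * ev s (ws j₀) * (ev s (k j₀))⁻¹ =
        (ev s (h j₀) * ev s (E ++ D ++ C ++ B) * (ev s (h j₀))⁻¹) *
          (ev s Y₀ * ev s X₀ * (ev s Y₀)⁻¹ * (ev s X₀)⁻¹) := by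
    intro G _ s
    rw [evX₀, evY₀]
    change ev s (h j₀ ++ E ++ rv A₁) * ev s (ws j₀) * (ev s (h j₀ ++ E ++ rv A₁))⁻¹ = _
    have e3 := congrArg (ev s) e2
    rw [e1]
    simp only [ev_append, ev_cons, ev_rv, evd_opp] at e3 ⊢
    have e4 : ev s A₂ = (ev s B * (evd s y * (ev s C * ((evd s x)⁻¹ *
      (ev s D * ((evd s y)⁻¹ * ev s E)))))) * (ev s A₁)⁻¹ := by
      rw [← e3]; group
    rw [e4]
    group
  have hLs : ∀ {G : Type w} [Group G] (F : J → G), (L.map F).prod = F j₀ := by
    intro G _ F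
    have : L = [j₀] := by
      have h1 : ∀ j ∈ L, j = j₀ := fun j hj => Finset.mem_singleton.1 ((hLT j).1 hj)
      have h2 : j₀ ∈ L := (hLT j₀).2 hj₀
      match L, hL, h1, h2 with
      | [], _, _, h2 => simp at h2
      | [a], _, h1, _ => rw [h1 a (by simp)]
      | a :: b :: L, hL, h1, _ =>
        have ha := h1 a (by simp)
        have hb := h1 b (by simp)
        rw [ha, hb] at hL
        simp at hL
    rw [this]
    simp
  refine ⟨g + 1, Fin.cons X₀ X, Fin.cons Y₀ Y, L, k, hL, hLT, ?_, ?_, ?_, ?_, ?_, ?_⟩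
  · rw [Finset.card_erase_of_mem (Finset.mem_erase.2 ⟨hxy.symm, hyS⟩),
      Finset.card_erase_of_mem hxS] at hcard
    have h3 : 1 < S.card := Finset.one_lt_card.2 ⟨x.1, hxS, y.1, hyS, hxy⟩
    omega
  · intro i
    refine Fin.cases ?_ (fun i => ?_) i
    · intro z hz
      rw [Fin.cons_zero] at hz
      change z ∈ h j₀ ++ (y :: (C ++ B)) ++ rv (h j₀) at hz
      simp only [List.mem_append, List.mem_cons, mem_rv] at hz
      rcases hz with (hz | rfl | hz | hz) | hz
      · exact sub (hh _ hj₀ z hz)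
      · exact hyS
      · exact sub (hlet z (by simp [hz]))
      · exact sub (hlet z (by simp [hz]))
      · exact sub (hh _ hj₀ (opp z) hz)
    · intro z hz
      rw [Fin.cons_succ] at hz
      exact sub (hX i z hz)
  · intro i
    refine Fin.cases ?_ (fun i => ?_) i
    · intro z hz
      rw [Fin.cons_zero] at hz
      change z ∈ h j₀ ++ rv (D ++ C ++ B) ++ (x :: B) ++ rv (h j₀) at hz
      simp only [List.mem_append, List.mem_cons, mem_rv] at hz
      rcases hz with ((hz | (hz | hz) | hz) | rfl | hz) | hz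
      · exact sub (hh _ hj₀ z hz)
      · exact sub (hlet (opp z) (by simp [hz]))
      · exact sub (hlet (opp z) (by simp [hz]))
      · exact sub (hlet (opp z) (by simp [hz]))
      · exact hxS
      · exact sub (hlet z (by simp [hz]))
      · exact sub (hh _ hj₀ (opp z) hz)
    · intro z hz
      rw [Fin.cons_succ] at hz
      exact sub (hY i z hz)
  · intro j _ z hz
    change z ∈ h j₀ ++ E ++ rv A₁ at hz
    simp only [List.mem_append, mem_rv] at hz
    rcases hz with (hz | hz) | hz
    · exact sub (hh _ hj₀ z hz)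
    · exact sub (hlet z (by simp [hz]))
    · exact hA₁ (opp z) hz
  · intro G _ s
    have h1 := hR G s
    rw [Rel, hLs] at h1 ⊢
    rw [cW]
    simp only [List.ofFn_succ, Fin.cons_zero, Fin.cons_succ, List.prod_cons]
    rw [Function.update_self] at h1
    have h2 : ev s (h j₀) * ev s (E ++ D ++ C ++ B) * (ev s (h j₀))⁻¹ =
        ((List.ofFn fun i => ev s (X i) * ev s (Y i) * (ev s (X i))⁻¹ * (ev s (Y i))⁻¹).prod)⁻¹ :=
      eq_inv_of_mul_eq_one_right h1
    rw [h2]
    group
  · intro G _ a b c hrel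
    rw [Rel, hLs] at hrel
    simp only [List.ofFn_succ, List.prod_cons] at hrel
    let c' : J → G := fun _ => c j₀ * (a 0 * b 0 * (a 0)⁻¹ * (b 0)⁻¹)
    have hrel' : Rel (fun i => a i.succ) (fun i => b i.succ) L c' := by
      rw [Rel, hLs]
      change _ * (c j₀ * (a 0 * b 0 * (a 0)⁻¹ * (b 0)⁻¹)) = 1
      have h3 : (List.ofFn fun i : Fin g => a i.succ * b i.succ * (a i.succ)⁻¹ * (b i.succ)⁻¹).prod =
          (a 0 * b 0 * (a 0)⁻¹ * (b 0)⁻¹)⁻¹ * (c j₀)⁻¹ := by
        rw [mul_assoc] at hrel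
        have h4 := eq_inv_of_mul_eq_one_right hrel
        rw [← h4]
        group
      rw [h3]
      group
    obtain ⟨s, ⟨hs1, hs2, hs3⟩, hs4⟩ := hU G _ _ c' hrel'
    have hs3' := hs3 j₀ hj₀
    rw [Function.update_self] at hs3'
    have hc' : c' j₀ = c j₀ * (a 0 * b 0 * (a 0)⁻¹ * (b 0)⁻¹) := rfl
    rw [hc'] at hs3'
    let vy : G := (ev s (h j₀))⁻¹ * a 0 * ev s (h j₀) * (ev s C * ev s B)⁻¹
    let vx : G := (ev s D * ev s C * ev s B) * ((ev s (h j₀))⁻¹ * b 0 * ev s (h j₀)) * (ev s B)⁻¹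
    have hvy : vy = (ev s (h j₀))⁻¹ * a 0 * ev s (h j₀) * (ev s C * ev s B)⁻¹ := rfl
    have hvx : vx = (ev s D * ev s C * ev s B) * ((ev s (h j₀))⁻¹ * b 0 * ev s (h j₀)) *
      (ev s B)⁻¹ := rfl
    let t : α → G := setd (setd s x vx) y vy
    have ht : ∀ z : α, z ∈ (S.erase x.1).erase y.1 → t z = s z := by
      intro z hz
      rw [Finset.mem_erase, Finset.mem_erase] at hz
      change setd (setd s x vx) y vy z = s z
      rw [setd_ne _ _ _ hz.1, setd_ne _ _ _ hz.2.1]
    have tev : ∀ l : List (α × Bool), (∀ z ∈ l, z.1 ∈ (S.erase x.1).erase y.1) → ev t l = ev s l :=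
      fun l hl => ev_congr fun z hz => ht _ (hl z hz)
    have ty : evd t y = vy := evd_setd _ _ _
    have tx : evd t x = vx := by
      have : evd t x = evd (setd s x vx) x := evd_congr (setd_ne _ _ _ hxy)
      rw [this, evd_setd]
    have hη := tev (h j₀) (hh j₀ hj₀)
    have hB := tev B fun z hz => hlet z (by simp [hz])
    have hC := tev C fun z hz => hlet z (by simp [hz])
    have hD := tev D fun z hz => hlet z (by simp [hz])
    have tX₀ : ev t X₀ = a 0 := by
      rw [evX₀, hη, hB, hC, ty, hvy]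
      group
    have tY₀ : ev t Y₀ = b 0 := by
      rw [evY₀, hη, hB, hC, hD, tx, hvx]
      group
    refine ⟨t, ⟨?_, ?_, ?_⟩, ?_⟩
    · intro i
      refine Fin.cases ?_ (fun i => ?_) i
      · rw [Fin.cons_zero, tX₀]
      · rw [Fin.cons_succ, tev _ (hX i), hs1]
    · intro i
      refine Fin.cases ?_ (fun i => ?_) i
      · rw [Fin.cons_zero, tY₀]
      · rw [Fin.cons_succ, tev _ (hY i), hs2]
    · intro j hj
      obtain rfl := Finset.mem_singleton.1 hj
      rw [cW, tX₀, tY₀, hη, tev _ hlet, hs3']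
      group
    · rintro s' ⟨ht1, ht2, ht3⟩ e he
      have sX₀ : ev s' X₀ = a 0 := by
        have := ht1 0
        rwa [Fin.cons_zero] at this
      have sY₀ : ev s' Y₀ = b 0 := by
        have := ht2 0
        rwa [Fin.cons_zero] at this
      have key := hs4 s' ⟨fun i => ?_, fun i => ?_, fun j hj => ?_⟩
      · have hev' : ∀ l : List (α × Bool), (∀ z ∈ l, z.1 ∈ (S.erase x.1).erase y.1) →
            ev s' l = ev s l := fun l hl => ev_congr fun z hz => key _ (hl z hz)
        have hη' := hev' (h j₀) (hh j₀ hj₀)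
        have hB' := hev' B fun z hz => hlet z (by simp [hz])
        have hC' := hev' C fun z hz => hlet z (by simp [hz])
        have hD' := hev' D fun z hz => hlet z (by simp [hz])
        by_cases hey : e = y.1
        · subst hey
          have h5 : evd s' y = vy := by
            rw [evX₀, hη', hB', hC'] at sX₀
            rw [hvy, ← sX₀]
            group
          exact evd_inj (h5.trans ty.symm)
        by_cases hex : e = x.1
        · subst hex
          have h5 : evd s' x = vx := by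
            rw [evY₀, hη', hB', hC', hD'] at sY₀
            rw [hvx, ← sY₀]
            group
          exact evd_inj (h5.trans tx.symm)
        · have he' : e ∈ (S.erase x.1).erase y.1 :=
            Finset.mem_erase.2 ⟨hey, Finset.mem_erase.2 ⟨hex, he⟩⟩
          rw [ht e he']
          exact key e he'
      · have := ht1 i.succ
        rwa [Fin.cons_succ] at this
      · have := ht2 i.succ
        rwa [Fin.cons_succ] at this
      · obtain rfl := Finset.mem_singleton.1 hj
        rw [Function.update_self, hc']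
        have h6 := ht3 j hj
        rw [cW, sX₀, sY₀] at h6
        rw [← h6]
        group

end Groth.Agent.Pi1.H6.SurfNFC
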