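import Groth.Agent.Pi1.H6.SurfNFA
import Groth.Agent.Pi1.H6.SurfNFC

/-!
# Normal form of one-vertex ribbon graphs: main result
-/

set_option autoImplicit false

universe u v w

namespace Groth.Agent.Pi1.H6.SurfMain

open Groth.Agent.Pi1.H6.SurfWord Groth.Agent.Pi1.H6.SurfNF Groth.Agent.Pi1.H6.SurfNFA
  Groth.Agent.Pi1.H6.SurfNFC

variable {α : Type u} {J : Type v} [DecidableEq α] [DecidableEq J]

omit [DecidableEq J] in
lemma std_empty {T : Finset J} {ws : J → List (α × Bool)} (h : RG ∅ T ws) :
    Std.{u, v, w} (∅ : Finset α) T ws := by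
  have hnil : ∀ j ∈ T, ws j = [] := by
    intro j hj
    by_contra hne
    obtain ⟨d, hd⟩ := List.exists_mem_of_ne_nil _ hne
    have := mem_of_count h.count hj hd
    simp at this
  have hT : T.card = 1 := by
    rcases h.nonempty with hn | ⟨-, hn⟩
    · obtain ⟨j, hj⟩ := h.ne
      exact absurd (hnil j hj) (hn j hj)
    · exact hn
  obtain ⟨j₀, rfl⟩ := Finset.card_eq_one.1 hT
  have hj₀ := hnil j₀ (by simp)
  refine ⟨0, Fin.elim0, Fin.elim0, [j₀], fun _ => [], by simp, by simp, by simp,
    fun i => i.elim0, fun i => i.elim0, by simp, ?_, ?_⟩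
  · intro G _ s
    simp [Rel, hj₀]
  · intro G _ a b c hrel
    refine ⟨fun _ => 1, ⟨fun i => i.elim0, fun i => i.elim0, ?_⟩, by simp⟩
    intro j hj
    obtain rfl := Finset.mem_singleton.1 hj
    simp only [Rel, List.ofFn_zero, List.prod_nil, List.map_cons, List.map_nil, List.prod_cons,
      mul_one, one_mul] at hrel
    rw [hrel, hj₀]
    simp

omit [DecidableEq J] in
/-- If no edge joins two different faces there is only one face. -/
lemma eq_singleton {S : Finset α} {T : Finset J} {ws : J → List (α × Bool)} (h : RG S T ws)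
    (hA : ∀ (d : α × Bool) (j₁ j₂ : J), j₁ ∈ T → j₂ ∈ T → d ∈ ws j₁ → opp d ∈ ws j₂ → j₁ = j₂)
    (hS : S.Nonempty) : ∃ j₀, T = {j₀} := by
  obtain ⟨a, ha⟩ := hS
  obtain ⟨j₀, hj₀, haj₀⟩ := exists_mem_of_count h.count (d := (a, true)) ha
  have key : ∀ d : α × Bool, d.1 ∈ S → d ∈ ws j₀ := by
    intro d hd
    have := h.oneV (fun z => z ∈ ws j₀) (by
      intro j hj
      by_cases hjj : j = j₀
      · subst hjj
        refine ⟨True, isPath_of_forall fun z hz => ⟨eq_true hz, eq_true ?_⟩⟩
        have hzS : z.1 ∈ S := mem_of_count h.count hj hz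
        obtain ⟨i, hi, hi'⟩ := exists_mem_of_count h.count (d := opp z) hzS
        obtain rfl := hA z _ _ hj hi hz hi'
        exact hi'
      · refine ⟨False, isPath_of_forall fun z hz => ⟨eq_false fun hz' => ?_,
          eq_false fun hz' => ?_⟩⟩
        · exact hjj (eq_of_count h.count hj hj₀ hz hz')
        · exact hjj (hA z _ _ hj hj₀ hz hz')) (a, true) d ha hd
    exact this.1 haj₀
  refine ⟨j₀, Finset.eq_singleton_iff_unique_mem.2 ⟨hj₀, fun j hj => ?_⟩⟩
  rcases h.nonempty with hn | ⟨hn, -⟩
  · obtain ⟨d, hd⟩ := List.exists_mem_of_ne_nil _ (hn j hj)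
    exact eq_of_count h.count hj hj₀ hd (key d (mem_of_count h.count hj hd))
  · rw [hn] at ha
    simp at ha

omit [DecidableEq J] in
/-- Existence of a handle. -/
lemma exists_handle {S : Finset α} {j₀ : J} {ws : J → List (α × Bool)} (h : RG S {j₀} ws)
    (hS : S.Nonempty) : ∃ (x y : α × Bool) (A₁ A₂ B C D E : List (α × Bool)), x.1 ≠ y.1 ∧
      ws j₀ = A₁ ++ x :: A₂ ∧ A₂ ++ A₁ = B ++ y :: (C ++ opp x :: (D ++ opp y :: E)) := by
  have hj₀ : j₀ ∈ ({j₀} : Finset J) := Finset.mem_singleton_self _
  obtain ⟨a, ha⟩ := hS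
  have hmem : ∀ d : α × Bool, d.1 ∈ S → d ∈ ws j₀ := by
    intro d hd
    obtain ⟨j, hj, hj'⟩ := exists_mem_of_count h.count (d := d) hd
    obtain rfl := Finset.mem_singleton.1 hj
    exact hj'
  have hcount : ∀ d : α × Bool, (ws j₀).count d ≤ 1 := by
    intro d
    have := h.count d
    rw [Finset.sum_singleton] at this
    rw [this]
    split_ifs <;> simp
  set x : α × Bool := (a, true) with hx
  obtain ⟨A₁, A₂, e1⟩ := List.append_of_mem (hmem x ha)
  have hU : ∀ d : α × Bool, (A₂ ++ A₁).count d + (if x = d then 1 else 0) = (ws j₀).count d := by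
    intro d
    rw [e1]
    simp only [List.count_append, List.count_cons, beq_iff_eq]
    omega
  have hx' : opp x ∈ A₂ ++ A₁ := by
    have h1 := hmem (opp x) ha
    rw [← List.count_pos_iff] at h1 ⊢
    have h2 := hU (opp x)
    rw [if_neg (opp_ne x).symm] at h2
    omega
  obtain ⟨P, Q, e2⟩ := List.append_of_mem hx'
  have hPQ : ∀ d : α × Bool, P.count d + Q.count d + (if opp x = d then 1 else 0) +
      (if x = d then 1 else 0) = (ws j₀).count d := by
    intro d
    rw [← hU d, e2]
    simp only [List.count_append, List.count_cons, beq_iff_eq]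
    omega
  -- linked pair
  have hlink : ∃ y ∈ P, opp y ∉ P := by
    by_contra hno
    push Not at hno
    have hxP : x ∉ P := by
      intro hxP
      have h1 := List.count_pos_iff.2 hxP
      have h2 := hPQ x
      have h3 := hcount x
      rw [if_pos rfl] at h2
      omega
    have hx'P : opp x ∉ P := fun h' => hxP (by simpa using hno _ h')
    have hxQ : x ∉ Q := by
      intro hxQ
      have h1 := List.count_pos_iff.2 hxQ
      have h2 := hPQ x
      have h3 := hcount x
      rw [if_pos rfl] at h2
      omega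
    have hx'Q : opp x ∉ Q := by
      intro hxQ
      have h1 := List.count_pos_iff.2 hxQ
      have h2 := hPQ (opp x)
      have h3 := hcount (opp x)
      rw [if_pos rfl] at h2
      omega
    have hPQ' : ∀ d ∈ Q, d ∉ P := by
      intro d hd hd'
      have h1 := List.count_pos_iff.2 hd
      have h1' := List.count_pos_iff.2 hd'
      have h2 := hPQ d
      have h3 := hcount d
      omega
    let f : α × Bool → Prop := fun d => d ∈ P ∨ d = opp x
    have fx : f x = False := by
      refine eq_false ?_
      rintro (h' | h')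
      · exact hxP h'
      · exact opp_ne x h'.symm
    have fx' : f (opp x) = True := eq_true (Or.inr rfl)
    have hpath : IsPath f False (x :: (A₂ ++ A₁)) False := by
      rw [isPath_cons, e2, isPath_append]
      refine ⟨fx.symm, True, ?_, ?_⟩
      · rw [fx']
        refine isPath_of_forall fun d hd => ⟨eq_true (Or.inl hd), eq_true (Or.inl (hno d hd))⟩
      · rw [isPath_cons, opp_opp, fx]
        refine ⟨fx'.symm, isPath_of_forall fun d hd => ⟨eq_false ?_, eq_false ?_⟩⟩
        · rintro (h' | h')
          · exact hPQ' d hd h'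
          · exact hx'Q (h' ▸ hd)
        · rintro (h' | h')
          · exact hPQ' d hd (by simpa using hno _ h')
          · have : d = x := by
              have := congrArg opp h'
              simpa using this
            exact hxQ (this ▸ hd)
    have := h.oneV f (by
      intro j hj
      obtain rfl := Finset.mem_singleton.1 hj
      rw [e1]
      exact exists_isPath_rotate (l := x :: A₂) (l' := A₁) ⟨False, hpath⟩) x (opp x) ha ha
    rw [fx, fx'] at this
    exact this.2 trivial
  obtain ⟨y, hyP, hyP'⟩ := hlink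
  have hyW : y.1 ∈ S := by
    refine mem_of_count h.count hj₀ (d := y) ?_
    rw [← List.count_pos_iff, ← hPQ y]
    have := List.count_pos_iff.2 hyP
    omega
  have hne : x.1 ≠ y.1 := by
    intro hxy
    rcases eq_or_eq_opp hxy with h' | h'
    · have h1 := List.count_pos_iff.2 hyP
      have h2 := hPQ y
      have h3 := hcount y
      rw [if_pos h'] at h2
      omega
    · have h1 := List.count_pos_iff.2 hyP
      have h2 := hPQ y
      have h3 := hcount y
      have h4 : opp x = y := by rw [h', opp_opp]
      rw [if_pos h4] at h2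
      omega
  have hyQ : opp y ∈ Q := by
    have h1 := List.count_pos_iff.2 (hmem (opp y) hyW)
    rw [← List.count_pos_iff]
    have h2 := hPQ (opp y)
    rw [if_neg (fun h' => hne (by have := congrArg Prod.fst h'; exact this)),
      if_neg (fun h' => hne (by have := congrArg Prod.fst h'; exact this)),
      List.count_eq_zero.2 hyP'] at h2
    omega
  obtain ⟨B, C, rfl⟩ := List.append_of_mem hyP
  obtain ⟨D, E, rfl⟩ := List.append_of_mem hyQ
  exact ⟨x, y, A₁, A₂, B, C, D, E, hne, e1, by rw [e2]; simp⟩

/-- **Normal form of one-vertex ribbon graphs.** -/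
theorem std_of_rg (n : ℕ) : ∀ (S : Finset α) (T : Finset J) (ws : J → List (α × Bool)),
    S.card = n → RG S T ws → Std.{u, v, w} S T ws := by
  induction n using Nat.strong_induction_on with
  | _ n ih =>
    intro S T ws hn h
    rcases S.eq_empty_or_nonempty with rfl | hS
    · exact std_empty h
    by_cases hA : ∀ (d : α × Bool) (j₁ j₂ : J), j₁ ∈ T → j₂ ∈ T → d ∈ ws j₁ → opp d ∈ ws j₂ →
        j₁ = j₂
    · obtain ⟨j₀, rfl⟩ := eq_singleton h hA hS
      obtain ⟨x, y, A₁, A₂, B, C, D, E, hxy, e1, e2⟩ := exists_handle h hS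
      have hj₀ : j₀ ∈ ({j₀} : Finset J) := Finset.mem_singleton_self _
      have hxS : x.1 ∈ S := mem_of_count h.count hj₀ (by rw [e1]; simp)
      have hyS : y.1 ∈ S := by
        have hy : y ∈ A₂ ++ A₁ := by rw [e2]; simp
        refine mem_of_count h.count hj₀ (d := y) ?_
        rw [e1]
        rw [List.mem_append] at hy
        rcases hy with hy | hy <;> simp [hy]
      have hRG := rgC h hxy e1 e2
      refine stdC hxS hyS hxy e1 e2 (fun z hz => ?_) (ih _ ?_ _ _ _ rfl hRG)
      · exact mem_of_count hRG.count hj₀ (by rw [Function.update_self]; exact hz)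
      · rw [← hn]
        exact (Finset.card_le_card (Finset.erase_subset _ _)).trans_lt
          (Finset.card_erase_lt_of_mem hxS)
    · push Not at hA
      obtain ⟨d, j₁, j₂, h1, h2, hd1, hd2, hne⟩ := hA
      obtain ⟨u₁, u₂, e1⟩ := List.append_of_mem hd1
      obtain ⟨v₁, v₂, e2⟩ := List.append_of_mem hd2
      have hd : d.1 ∈ S := mem_of_count h.count h1 hd1
      have hRG := rgA h h1 h2 hne e1 e2
      have h1' : j₁ ∈ T.erase j₂ := Finset.mem_erase.2 ⟨hne, h1⟩
      refine stdA h1 h2 hne hd e1 e2 (fun z hz => ?_) (fun j hj hj1 hj2 z hz => ?_)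
        (ih _ ?_ _ _ _ rfl hRG)
      · exact mem_of_count hRG.count h1' (by rw [Function.update_self]; exact hz)
      · exact mem_of_count hRG.count (Finset.mem_erase.2 ⟨hj2, hj⟩)
          (by rw [Function.update_of_ne hj1]; exact hz)
      · rw [← hn]
        exact Finset.card_erase_lt_of_mem hd

end Groth.Agent.Pi1.H6.SurfMain
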