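import Groth.Agent.Pi1.H6.SurfWord
import Mathlib.Algebra.Order.BigOperators.Group.Finset

/-!
# Normal form of one-vertex ribbon graphs

`RG S T w`: the words `w j` (`j ∈ T`) are the face words of a connected ribbon graph with one vertex,
with edges `S`: every oriented edge occurs exactly once, and a function on oriented edges for which
all face words are closed paths is constant.

`Std S T w`: the free group on `S` has a standard basis `x_i, y_i, σ_j` with
`∏ [x_i, y_i] ∏ σ_j = 1`, `σ_j` conjugate to the face word `w j`.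

Main result: `std_of_rg : RG S T w → Std S T w`.
-/

set_option autoImplicit false

universe u v w

namespace Groth.Agent.Pi1.H6.SurfNF

open Groth.Agent.Pi1.H6.SurfWord

variable {α : Type u} {J : Type v}

/-- The surface relation. -/
def Rel {G : Type w} [Group G] {g : ℕ} (a b : Fin g → G) (L : List J) (c : J → G) : Prop :=
  (List.ofFn fun i => a i * b i * (a i)⁻¹ * (b i)⁻¹).prod * (L.map c).prod = 1

/-- `s` evaluates the standard words to the given tuple. -/
def Good {G : Type w} [Group G] {g : ℕ} (T : Finset J) (ws : J → List (α × Bool))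
    (x y : Fin g → List (α × Bool)) (h : J → List (α × Bool)) (a b : Fin g → G) (c : J → G)
    (s : α → G) : Prop :=
  (∀ i, ev s (x i) = a i) ∧ (∀ i, ev s (y i) = b i) ∧
    ∀ j ∈ T, ev s (h j) * ev s (ws j) * (ev s (h j))⁻¹ = c j

section

variable [DecidableEq α]

/-- Ribbon graph with one vertex. -/
structure RG (S : Finset α) (T : Finset J) (ws : J → List (α × Bool)) : Prop where
  ne : T.Nonempty
  count : ∀ d : α × Bool, ∑ j ∈ T, (ws j).count d = if d.1 ∈ S then 1 else 0
  oneV : ∀ f : α × Bool → Prop, (∀ j ∈ T, ∃ p, IsPath f p (ws j) p) →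
    ∀ d d' : α × Bool, d.1 ∈ S → d'.1 ∈ S → (f d ↔ f d')
  nonempty : (∀ j ∈ T, ws j ≠ []) ∨ (S = ∅ ∧ T.card = 1)

end

/-- The free group on `S` is a surface group with boundary words `ws`. -/
def Std (S : Finset α) (T : Finset J) (ws : J → List (α × Bool)) : Prop :=
  ∃ (g : ℕ) (x y : Fin g → List (α × Bool)) (L : List J) (h : J → List (α × Bool)),
    L.Nodup ∧ (∀ j, j ∈ L ↔ j ∈ T) ∧ 2 * g + T.card = S.card + 1 ∧
    (∀ i, ∀ d ∈ x i, d.1 ∈ S) ∧ (∀ i, ∀ d ∈ y i, d.1 ∈ S) ∧ (∀ j ∈ T, ∀ d ∈ h j, d.1 ∈ S) ∧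
    (∀ (G : Type w) [Group G] (s : α → G), Rel (fun i => ev s (x i)) (fun i => ev s (y i)) L
      (fun j => ev s (h j) * ev s (ws j) * (ev s (h j))⁻¹)) ∧
    (∀ (G : Type w) [Group G] (a b : Fin g → G) (c : J → G), Rel a b L c →
      ∃ s : α → G, Good T ws x y h a b c s ∧ ∀ s' : α → G, Good T ws x y h a b c s' →
        ∀ e ∈ S, s' e = s e)

section count

variable [DecidableEq α] {S : Finset α} {T : Finset J} {ws : J → List (α × Bool)}

lemma mem_of_count (h : ∀ d : α × Bool, ∑ j ∈ T, (ws j).count d = if d.1 ∈ S then 1 else 0)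
    {j : J} (hj : j ∈ T) {d : α × Bool} (hd : d ∈ ws j) : d.1 ∈ S := by
  by_contra hS
  have h1 := h d
  rw [if_neg hS, Finset.sum_eq_zero_iff] at h1
  exact (List.count_pos_iff.2 hd).ne' (h1 j hj)

lemma exists_mem_of_count (h : ∀ d : α × Bool, ∑ j ∈ T, (ws j).count d = if d.1 ∈ S then 1 else 0)
    {d : α × Bool} (hd : d.1 ∈ S) : ∃ j ∈ T, d ∈ ws j := by
  by_contra hS
  push Not at hS
  have h1 := h d
  rw [if_pos hd, Finset.sum_eq_zero fun j hj => List.count_eq_zero.2 (hS j hj)] at h1
  exact absurd h1 (by norm_num)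

lemma eq_of_count (h : ∀ d : α × Bool, ∑ j ∈ T, (ws j).count d = if d.1 ∈ S then 1 else 0)
    {j j' : J} (hj : j ∈ T) (hj' : j' ∈ T) {d : α × Bool} (hd : d ∈ ws j) (hd' : d ∈ ws j') :
    j = j' := by
  classical
  by_contra hne
  have h1 : ∑ i ∈ {j, j'}, (ws i).count d ≤ ∑ i ∈ T, (ws i).count d := by
    refine Finset.sum_le_sum_of_subset fun i hi => ?_
    simp only [Finset.mem_insert, Finset.mem_singleton] at hi
    rcases hi with rfl | rfl <;> assumption
  rw [h d, Finset.sum_pair hne] at h1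
  have h2 := List.count_pos_iff.2 hd
  have h3 := List.count_pos_iff.2 hd'
  split_ifs at h1 <;> omega

end count

section stepA

variable [DecidableEq α] [DecidableEq J] {S : Finset α} {T : Finset J}
  {ws : J → List (α × Bool)} {j₁ j₂ : J} {d : α × Bool} {u₁ u₂ v₁ v₂ : List (α × Bool)}

lemma countA (h : ∀ d : α × Bool, ∑ j ∈ T, (ws j).count d = if d.1 ∈ S then 1 else 0)
    (h1 : j₁ ∈ T) (h2 : j₂ ∈ T) (hne : j₁ ≠ j₂)
    (hd : d.1 ∈ S) (e1 : ws j₁ = u₁ ++ d :: u₂) (e2 : ws j₂ = v₁ ++ opp d :: v₂) (d' : α × Bool) :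
    ∑ j ∈ T.erase j₂, (Function.update ws j₁ (v₂ ++ v₁ ++ u₂ ++ u₁) j).count d' =
      if d'.1 ∈ S.erase d.1 then 1 else 0 := by
  have h1' : j₁ ∈ T.erase j₂ := Finset.mem_erase.2 ⟨hne, h1⟩
  have hs := h d'
  rw [← Finset.add_sum_erase _ _ h2, ← Finset.add_sum_erase _ _ h1'] at hs
  rw [← Finset.add_sum_erase _ _ h1', Function.update_self]
  have hr : ∑ j ∈ (T.erase j₂).erase j₁,
      (Function.update ws j₁ (v₂ ++ v₁ ++ u₂ ++ u₁) j).count d' =
      ∑ j ∈ (T.erase j₂).erase j₁, (ws j).count d' := by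
    refine Finset.sum_congr rfl fun j hj => ?_
    rw [Function.update_of_ne (Finset.ne_of_mem_erase hj)]
  rw [hr]
  rw [e1, e2] at hs
  simp only [List.count_append, List.count_cons, beq_iff_eq] at hs ⊢
  by_cases hc : d'.1 = d.1
  · rw [if_neg (by rw [hc]; exact Finset.notMem_erase _ _)]
    have hS : d'.1 ∈ S := by rw [hc]; exact hd
    rw [if_pos hS] at hs
    rcases eq_or_eq_opp hc with h3 | h3
    · rw [if_pos h3.symm, if_neg (fun h4 => opp_ne d (h4.trans h3))] at hs
      omega
    · rw [if_pos h3.symm, if_neg (fun h4 => opp_ne d (h3.symm.trans h4.symm))] at hs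
      omega
  · have hc1 : ¬ d = d' := fun h => hc (by rw [h])
    have hc2 : ¬ opp d = d' := fun h => hc (by rw [← h]; rfl)
    rw [if_neg hc1, if_neg hc2] at hs
    have : d'.1 ∈ S.erase d.1 ↔ d'.1 ∈ S := by
      rw [Finset.mem_erase]; exact and_iff_right hc
    simp only [this]
    omega

lemma rgA (h : RG S T ws) (h1 : j₁ ∈ T) (h2 : j₂ ∈ T) (hne : j₁ ≠ j₂)
    (e1 : ws j₁ = u₁ ++ d :: u₂) (e2 : ws j₂ = v₁ ++ opp d :: v₂) :
    RG (S.erase d.1) (T.erase j₂) (Function.update ws j₁ (v₂ ++ v₁ ++ u₂ ++ u₁)) := by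
  have hd : d.1 ∈ S := mem_of_count h.count h1 (by rw [e1]; simp)
  have hcnt := countA h.count h1 h2 hne hd e1 e2
  have h1' : j₁ ∈ T.erase j₂ := Finset.mem_erase.2 ⟨hne, h1⟩
  have hlet : ∀ d' ∈ v₂ ++ v₁ ++ u₂ ++ u₁, d'.1 ≠ d.1 := by
    intro d' hd'
    have := mem_of_count hcnt h1' (d := d') (by rw [Function.update_self]; exact hd')
    exact Finset.ne_of_mem_erase this
  have hrest : ∀ j ∈ T, j ≠ j₁ → j ≠ j₂ → ∀ d' ∈ ws j, d'.1 ≠ d.1 := by
    intro j hj hj1 hj2 d' hd'
    have := mem_of_count hcnt (Finset.mem_erase.2 ⟨hj2, hj⟩) (d := d')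
      (by rw [Function.update_of_ne hj1]; exact hd')
    exact Finset.ne_of_mem_erase this
  refine ⟨⟨j₁, h1'⟩, hcnt, ?_, ?_⟩
  · intro f hf a b ha hb
    obtain ⟨p, hp⟩ := hf j₁ h1'
    rw [Function.update_self] at hp
    obtain ⟨q₂, hp, hpu₁⟩ := (isPath_append _ _ _ _ _).1 hp
    obtain ⟨q, hp, hpu₂⟩ := (isPath_append _ _ _ _ _).1 hp
    obtain ⟨q₁, hpv₂, hpv₁⟩ := (isPath_append _ _ _ _ _).1 hp
    let f' : α × Bool → Prop := fun z => if z = d then p else if z = opp d then q else f z
    have fd : f' d = p := if_pos rfl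
    have fd' : f' (opp d) = q := by
      change (if opp d = d then p else if opp d = opp d then q else _) = q
      rw [if_neg (opp_ne d), if_pos rfl]
    have fne : ∀ z : α × Bool, z.1 ≠ d.1 → f' z = f z := by
      intro z hz
      change (if z = d then p else if z = opp d then q else f z) = f z
      rw [if_neg (fun h => hz (by rw [h])), if_neg (fun h => hz (by rw [h]; rfl))]
    have hcongr : ∀ (l : List (α × Bool)) (p q : Prop), (∀ z ∈ l, z.1 ≠ d.1) → IsPath f p l q →
        IsPath f' p l q := fun l p q hl hpq =>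
      hpq.congr fun z hz => ⟨(fne z (hl z hz)).symm, (fne (opp z) (hl z hz)).symm⟩
    have key := h.oneV f' (by
      intro j hj
      by_cases hj1 : j = j₁
      · subst hj1
        refine ⟨q₂, ?_⟩
        rw [e1, isPath_append]
        refine ⟨p, hcongr _ _ _ (fun z hz => hlet z (by simp [hz])) hpu₁, ?_⟩
        rw [isPath_cons, fd, fd']
        exact ⟨rfl, hcongr _ _ _ (fun z hz => hlet z (by simp [hz])) hpu₂⟩
      by_cases hj2 : j = j₂
      · subst hj2
        refine ⟨q₁, ?_⟩
        rw [e2, isPath_append]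
        refine ⟨q, hcongr _ _ _ (fun z hz => hlet z (by simp [hz])) hpv₁, ?_⟩
        rw [isPath_cons, opp_opp, fd, fd']
        exact ⟨rfl, hcongr _ _ _ (fun z hz => hlet z (by simp [hz])) hpv₂⟩
      · obtain ⟨r, hr⟩ := hf j (Finset.mem_erase.2 ⟨hj2, hj⟩)
        rw [Function.update_of_ne hj1] at hr
        exact ⟨r, hcongr _ _ _ (hrest j hj hj1 hj2) hr⟩) a b
      (Finset.mem_of_mem_erase ha) (Finset.mem_of_mem_erase hb)
    rwa [fne a (Finset.ne_of_mem_erase ha), fne b (Finset.ne_of_mem_erase hb)] at key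
  · by_cases hW : v₂ ++ v₁ ++ u₂ ++ u₁ = []
    · right
      simp only [List.append_eq_nil_iff] at hW
      obtain ⟨⟨⟨rfl, rfl⟩, rfl⟩, rfl⟩ := hW
      have hS : S = {d.1} := by
        refine Finset.eq_singleton_iff_unique_mem.2 ⟨hd, fun a ha => ?_⟩
        have key := h.oneV (fun z => z.1 = d.1) (by
          intro j hj
          by_cases hj1 : j = j₁
          · subst hj1
            rw [e1]
            exact ⟨True, isPath_of_forall (by simp)⟩
          by_cases hj2 : j = j₂
          · subst hj2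
            rw [e2]
            exact ⟨True, isPath_of_forall (by simp)⟩
          · exact ⟨False, isPath_of_forall fun z hz => ⟨by simpa using hrest j hj hj1 hj2 z hz,
              by simpa using hrest j hj hj1 hj2 z hz⟩⟩) (a, true) d ha hd
        exact key.2 rfl
      have hT : T = {j₁, j₂} := by
        ext j
        simp only [Finset.mem_insert, Finset.mem_singleton]
        refine ⟨fun hj => ?_, ?_⟩
        · by_contra hj'
          push Not at hj'
          rcases h.nonempty with hn | ⟨hn, -⟩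
          · obtain ⟨z, hz⟩ := List.exists_mem_of_ne_nil _ (hn j hj)
            have := mem_of_count h.count hj hz
            rw [hS, Finset.mem_singleton] at this
            exact hrest j hj hj'.1 hj'.2 z hz this
          · rw [hn] at hd
            simp at hd
        · rintro (rfl | rfl) <;> assumption
      refine ⟨by rw [hS]; simp, ?_⟩
      rw [hT, Finset.card_erase_of_mem (by simp), Finset.card_pair hne]
    · left
      intro j hj
      by_cases hj1 : j = j₁
      · subst hj1
        rwa [Function.update_self]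
      · rw [Function.update_of_ne hj1]
        rcases h.nonempty with hn | ⟨hn, -⟩
        · exact hn j (Finset.mem_of_mem_erase hj)
        · rw [hn] at hd
          simp at hd

end stepA

end Groth.Agent.Pi1.H6.SurfNF
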