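import Groth.Agent.Pi1.H6.SurfNF

/-!
# Normal form: merging two faces
-/

set_option autoImplicit false

universe u v w

namespace Groth.Agent.Pi1.H6.SurfNFA

open Groth.Agent.Pi1.H6.SurfWord Groth.Agent.Pi1.H6.SurfNF

variable {α : Type u} {J : Type v} [DecidableEq α] [DecidableEq J]

/-- Replace `j₁` by `j₂, j₁` in a list. -/
def spl (j₁ j₂ : J) (L : List J) : List J := L.flatMap fun j => if j = j₁ then [j₂, j₁] else [j]

lemma prod_spl {G : Type w} [Group G] (j₁ j₂ : J) (L : List J) (F : J → G) :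
    ((spl j₁ j₂ L).map F).prod = (L.map fun j => if j = j₁ then F j₂ * F j₁ else F j).prod := by
  induction L with
  | nil => rfl
  | cons j L ih =>
    rw [spl, List.flatMap_cons, List.map_append, List.prod_append, ← spl, ih, List.map_cons,
      List.prod_cons]
    congr 1
    split_ifs with h <;> simp

lemma mem_spl {j₁ j₂ : J} {L : List J} (h1 : j₁ ∈ L) (j : J) :
    j ∈ spl j₁ j₂ L ↔ j ∈ L ∨ j = j₂ := by
  simp only [spl, List.mem_flatMap]
  constructor
  · rintro ⟨a, ha, h⟩
    split_ifs at h with h'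
    · simp only [List.mem_cons, List.not_mem_nil, or_false] at h
      rcases h with rfl | rfl
      · exact Or.inr rfl
      · exact Or.inl h1
    · simp only [List.mem_cons, List.not_mem_nil, or_false] at h
      exact Or.inl (h ▸ ha)
  · rintro (h | rfl)
    · refine ⟨j, h, ?_⟩
      split_ifs with h' <;> simp [h']
    · exact ⟨j₁, h1, by simp⟩

lemma nodup_spl {j₁ j₂ : J} {L : List J} (hL : L.Nodup) (h2 : j₂ ∉ L) (hne : j₁ ≠ j₂) :
    (spl j₁ j₂ L).Nodup := by
  induction L with
  | nil => exact List.nodup_nil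
  | cons a L ih =>
    rw [List.nodup_cons] at hL
    rw [List.mem_cons, not_or] at h2
    have ih' := ih hL.2 h2.2
    have hmem : ∀ j, j ∈ spl j₁ j₂ L → j ∈ L ∨ (j = j₂ ∧ j₁ ∈ L) := by
      intro j hj
      simp only [spl, List.mem_flatMap] at hj
      obtain ⟨b, hb, h⟩ := hj
      split_ifs at h with h'
      · simp only [List.mem_cons, List.not_mem_nil, or_false] at h
        rcases h with rfl | rfl
        · exact Or.inr ⟨rfl, h' ▸ hb⟩
        · exact Or.inl (h' ▸ hb)
      · simp only [List.mem_cons, List.not_mem_nil, or_false] at h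
        exact Or.inl (h ▸ hb)
    rw [spl, List.flatMap_cons, ← spl]
    split_ifs with h'
    · subst h'
      refine List.nodup_append.2 ⟨by simp [hne.symm], ih', ?_⟩
      intro x hx y hy
      simp only [List.mem_cons, List.not_mem_nil, or_false] at hx
      rintro rfl
      rcases hmem x hy with h | ⟨h, h''⟩
      · rcases hx with rfl | rfl
        · exact h2.2 h
        · exact hL.1 h
      · exact hL.1 h''
    · refine List.nodup_append.2 ⟨by simp, ih', ?_⟩
      intro x hx y hy
      simp only [List.mem_cons, List.not_mem_nil, or_false] at hx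
      rintro rfl
      subst hx
      rcases hmem x hy with h | ⟨h, h''⟩
      · exact hL.1 h
      · exact h2.1 h.symm

variable {S : Finset α} {T : Finset J}
  {ws : J → List (α × Bool)} {j₁ j₂ : J} {d : α × Bool} {u₁ u₂ v₁ v₂ : List (α × Bool)}

lemma stdA (h1 : j₁ ∈ T) (h2 : j₂ ∈ T) (hne : j₁ ≠ j₂) (hd : d.1 ∈ S)
    (e1 : ws j₁ = u₁ ++ d :: u₂) (e2 : ws j₂ = v₁ ++ opp d :: v₂)
    (hlet : ∀ z ∈ v₂ ++ v₁ ++ u₂ ++ u₁, z.1 ∈ S.erase d.1)
    (hrest : ∀ j ∈ T, j ≠ j₁ → j ≠ j₂ → ∀ z ∈ ws j, z.1 ∈ S.erase d.1)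
    (hStd : Std.{u, v, w} (S.erase d.1) (T.erase j₂)
      (Function.update ws j₁ (v₂ ++ v₁ ++ u₂ ++ u₁))) :
    Std.{u, v, w} S T ws := by
  obtain ⟨g, x, y, L, h, hL, hLT, hcard, hx, hy, hh, hR, hU⟩ := hStd
  have h1' : j₁ ∈ T.erase j₂ := Finset.mem_erase.2 ⟨hne, h1⟩
  have hj₂L : j₂ ∉ L := fun h' => Finset.notMem_erase _ _ ((hLT j₂).1 h')
  let k : J → List (α × Bool) := fun j =>
    if j = j₂ then h j₁ ++ v₂ else if j = j₁ then h j₁ ++ rv u₁ else h j
  have k1 : k j₁ = h j₁ ++ rv u₁ := by
    change (if j₁ = j₂ then _ else if j₁ = j₁ then _ else _) = _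
    rw [if_neg hne, if_pos rfl]
  have k2 : k j₂ = h j₁ ++ v₂ := if_pos rfl
  have k3 : ∀ j, j ≠ j₁ → j ≠ j₂ → k j = h j := fun j h3 h4 => by
    change (if j = j₂ then _ else if j = j₁ then _ else _) = _
    rw [if_neg h4, if_neg h3]
  have sub : ∀ {z : α}, z ∈ S.erase d.1 → z ∈ S := fun hz => Finset.mem_of_mem_erase hz
  -- values of the new conjugates
  have c1 : ∀ {G : Type w} [Group G] (s : α → G),
      ev s (k j₁) * ev s (ws j₁) * (ev s (k j₁))⁻¹ =
        ev s (h j₁) * (evd s d * ev s u₂ * ev s u₁) * (ev s (h j₁))⁻¹ := by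
    intro G _ s
    rw [k1, e1]
    simp only [ev_append, ev_cons, ev_rv]
    group
  have c2 : ∀ {G : Type w} [Group G] (s : α → G),
      ev s (k j₂) * ev s (ws j₂) * (ev s (k j₂))⁻¹ =
        ev s (h j₁) * (ev s v₂ * ev s v₁ * (evd s d)⁻¹) * (ev s (h j₁))⁻¹ := by
    intro G _ s
    rw [k2, e2]
    simp only [ev_append, ev_cons, evd_opp]
    group
  have c21 : ∀ {G : Type w} [Group G] (s : α → G),
      (ev s (k j₂) * ev s (ws j₂) * (ev s (k j₂))⁻¹) *
        (ev s (k j₁) * ev s (ws j₁) * (ev s (k j₁))⁻¹) =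
        ev s (h j₁) * ev s (v₂ ++ v₁ ++ u₂ ++ u₁) * (ev s (h j₁))⁻¹ := by
    intro G _ s
    rw [c1, c2]
    simp only [ev_append]
    group
  refine ⟨g, x, y, spl j₁ j₂ L, k, nodup_spl hL hj₂L hne, ?_, ?_, fun i z hz => sub (hx i z hz),
    fun i z hz => sub (hy i z hz), ?_, ?_, ?_⟩
  · intro j
    rw [mem_spl ((hLT j₁).2 h1'), hLT, Finset.mem_erase]
    constructor
    · rintro (h | rfl)
      · exact h.2
      · exact h2
    · intro hj
      by_cases hj2 : j = j₂
      · exact Or.inr hj2
      · exact Or.inl ⟨hj2, hj⟩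
  · rw [Finset.card_erase_of_mem h2, Finset.card_erase_of_mem hd] at hcard
    have := Finset.card_pos.2 ⟨_, h2⟩
    have := Finset.card_pos.2 ⟨_, hd⟩
    omega
  · intro j hj z hz
    by_cases hj2 : j = j₂
    · subst hj2
      rw [k2, List.mem_append] at hz
      rcases hz with hz | hz
      · exact sub (hh _ h1' z hz)
      · exact sub (hlet z (by simp [hz]))
    by_cases hj1 : j = j₁
    · subst hj1
      rw [k1, List.mem_append] at hz
      rcases hz with hz | hz
      · exact sub (hh _ h1' z hz)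
      · rw [mem_rv] at hz
        exact sub (hlet (opp z) (by simp [hz]))
    · rw [k3 j hj1 hj2] at hz
      exact sub (hh _ (Finset.mem_erase.2 ⟨hj2, hj⟩) z hz)
  · intro G _ s
    have := hR G s
    rw [Rel] at this ⊢
    rw [prod_spl]
    rw [← this]
    congr 2
    refine List.map_congr_left fun j hj => ?_
    have hjT := (hLT j).1 hj
    have hj2 := Finset.ne_of_mem_erase hjT
    split_ifs with hj1
    · subst hj1
      rw [c21, Function.update_self]
    · rw [k3 j hj1 hj2, Function.update_of_ne hj1]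
  · intro G _ a b c hrel
    let c' : J → G := fun j => if j = j₁ then c j₂ * c j₁ else c j
    have hrel' : Rel a b L c' := by
      rw [Rel, prod_spl] at hrel
      exact hrel
    obtain ⟨s, ⟨hs1, hs2, hs3⟩, hs4⟩ := hU G a b c' hrel'
    have hj₁ := hs3 j₁ h1'
    rw [Function.update_self] at hj₁
    have hc' : c' j₁ = c j₂ * c j₁ := if_pos rfl
    rw [hc'] at hj₁
    -- the value of `d`
    let val : G := (ev s (h j₁))⁻¹ * c j₁ * ev s (h j₁) * (ev s u₂ * ev s u₁)⁻¹
    have hval : val = (ev s (h j₁))⁻¹ * c j₁ * ev s (h j₁) * (ev s u₂ * ev s u₁)⁻¹ := rfl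
    have hev : ∀ l : List (α × Bool), (∀ z ∈ l, z.1 ∈ S.erase d.1) → ev (setd s d val) l = ev s l :=
      fun l hl => ev_congr fun z hz => setd_ne _ _ _ (Finset.ne_of_mem_erase (hl z hz))
    have hη := hev (h j₁) (hh j₁ h1')
    have hu₁ := hev u₁ fun z hz => hlet z (by simp [hz])
    have hu₂ := hev u₂ fun z hz => hlet z (by simp [hz])
    have hv₁ := hev v₁ fun z hz => hlet z (by simp [hz])
    have hv₂ := hev v₂ fun z hz => hlet z (by simp [hz])
    refine ⟨setd s d val, ⟨fun i => ?_, fun i => ?_, fun j hj => ?_⟩, ?_⟩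
    · rw [hev _ (hx i), hs1]
    · rw [hev _ (hy i), hs2]
    · by_cases hj1 : j = j₁
      · subst hj1
        rw [c1, hη, hu₁, hu₂, evd_setd, hval]
        group
      by_cases hj2 : j = j₂
      · subst hj2
        rw [c2, hη, hv₁, hv₂, evd_setd, hval]
        have : c j = (c j * c j₁) * (c j₁)⁻¹ := by group
        rw [this, ← hj₁]
        simp only [ev_append]
        group
      · rw [k3 j hj1 hj2, hev _ (hh j (Finset.mem_erase.2 ⟨hj2, hj⟩)), hev _ (hrest j hj hj1 hj2)]
        have := hs3 j (Finset.mem_erase.2 ⟨hj2, hj⟩)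
        rw [Function.update_of_ne hj1] at this
        rw [this]
        exact if_neg hj1
    · rintro s' ⟨ht1, ht2, ht3⟩ e he
      have key := hs4 s' ⟨ht1, ht2, fun j hj => ?_⟩
      · have hev' : ∀ l : List (α × Bool), (∀ z ∈ l, z.1 ∈ S.erase d.1) → ev s' l = ev s l :=
          fun l hl => ev_congr fun z hz => key _ (hl z hz)
        by_cases hed : e = d.1
        · subst hed
          have hd1 : evd s' d = val := by
            have h5 := ht3 j₁ h1
            rw [c1] at h5
            rw [hval, ← hev' _ (hh j₁ h1'), ← hev' u₁ fun z hz => hlet z (by simp [hz]),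
              ← hev' u₂ fun z hz => hlet z (by simp [hz]), ← h5]
            group
          have hd2 : evd s' d = evd (setd s d val) d := by rw [hd1, evd_setd]
          exact evd_inj hd2
        · rw [setd_ne _ _ _ hed]
          exact key e (Finset.mem_erase.2 ⟨hed, he⟩)
      · have hj2 := Finset.ne_of_mem_erase hj
        by_cases hj1 : j = j₁
        · subst hj1
          rw [Function.update_self, ← c21, ht3 _ h1, ht3 _ h2]
          exact hc'.symm
        · rw [Function.update_of_ne hj1]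
          have := ht3 j (Finset.mem_of_mem_erase hj)
          rw [k3 j hj1 hj2] at this
          rw [this]
          exact (if_neg hj1).symm

end Groth.Agent.Pi1.H6.SurfNFA
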