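import Mathlib.GroupTheory.Commutator.Basic
import Mathlib.Data.List.OfFn
import Mathlib.Data.Fintype.BigOperators
import Mathlib.Algebra.BigOperators.Group.Finset.Basic
import Mathlib.Tactic.Group

/-!
# Words in oriented edges: evaluation and paths

`α` is a type of edges, `α × Bool` the type of oriented edges.

* `opp` opposite oriented edge, `rv` inverse word, `ev s l` value of a word in a group;
* `IsPath f p l q`: the word `l` is a path from `p` to `q` if `f d` is the source of the oriented
  edge `d` (and `f (opp d)` its target).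
-/

set_option autoImplicit false

universe u v w

namespace Groth.Agent.Pi1.H6.SurfWord

variable {α : Type u}

/-- The opposite oriented edge. -/
def opp (d : α × Bool) : α × Bool := (d.1, !d.2)

@[simp] lemma opp_fst (d : α × Bool) : (opp d).1 = d.1 := rfl

@[simp] lemma opp_opp (d : α × Bool) : opp (opp d) = d := by
  simp [opp]

lemma opp_ne (d : α × Bool) : opp d ≠ d := by
  obtain ⟨a, b⟩ := d
  cases b <;> simp [opp]

lemma eq_or_eq_opp {d d' : α × Bool} (h : d.1 = d'.1) : d = d' ∨ d = opp d' := by
  obtain ⟨a, b⟩ := d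
  obtain ⟨a', b'⟩ := d'
  obtain rfl : a = a' := h
  cases b <;> cases b' <;> simp [opp]

section ev

variable {G : Type w} [Group G] (s : α → G)

/-- Value of an oriented edge. -/
def evd (d : α × Bool) : G := cond d.2 (s d.1) (s d.1)⁻¹

@[simp] lemma evd_opp (d : α × Bool) : evd s (opp d) = (evd s d)⁻¹ := by
  obtain ⟨a, b⟩ := d
  cases b <;> simp [opp, evd]

/-- Value of a word. -/
def ev (l : List (α × Bool)) : G := (l.map (evd s)).prod

@[simp] lemma ev_nil : ev s [] = 1 := rfl

@[simp] lemma ev_cons (d : α × Bool) (l : List (α × Bool)) : ev s (d :: l) = evd s d * ev s l := by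
  simp [ev]

@[simp] lemma ev_append (l l' : List (α × Bool)) : ev s (l ++ l') = ev s l * ev s l' := by
  simp [ev]

/-- Inverse word. -/
def rv (l : List (α × Bool)) : List (α × Bool) := (l.map opp).reverse

@[simp] lemma ev_rv (l : List (α × Bool)) : ev s (rv l) = (ev s l)⁻¹ := by
  induction l with
  | nil => simp [rv]
  | cons d l ih =>
    have h : rv (d :: l) = rv l ++ [opp d] := by simp [rv]
    rw [h, ev_append, ih]
    simp

variable {s}

lemma evd_congr {s' : α → G} {d : α × Bool} (h : s d.1 = s' d.1) : evd s d = evd s' d := by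
  simp only [evd, h]

lemma ev_congr {s' : α → G} {l : List (α × Bool)} (h : ∀ d ∈ l, s d.1 = s' d.1) :
    ev s l = ev s' l := by
  rw [ev, ev]
  congr 1
  exact List.map_congr_left fun d hd => evd_congr (h d hd)

lemma evd_inj {s' : α → G} {d : α × Bool} (h : evd s d = evd s' d) : s d.1 = s' d.1 := by
  obtain ⟨a, b⟩ := d
  cases b <;> simpa [evd] using h

/-- Change the value of `s` so that the oriented edge `d` gets the value `v`. -/
noncomputable def setd (s : α → G) (d : α × Bool) (v : G) : α → G :=
  open Classical in Function.update s d.1 (cond d.2 v v⁻¹)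

@[simp] lemma evd_setd (s : α → G) (d : α × Bool) (v : G) : evd (setd s d v) d = v := by
  obtain ⟨a, b⟩ := d
  cases b <;> simp [evd, setd]

lemma setd_ne (s : α → G) (d : α × Bool) (v : G) {a : α} (h : a ≠ d.1) : setd s d v a = s a := by
  classical
  simp [setd, Function.update_of_ne h]

end ev

lemma mem_rv {d : α × Bool} {l : List (α × Bool)} : d ∈ rv l ↔ opp d ∈ l := by
  simp only [rv, List.mem_reverse, List.mem_map]
  constructor
  · rintro ⟨a, ha, rfl⟩
    simpa using ha
  · intro h
    exact ⟨opp d, h, by simp⟩

section path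

variable {V : Type v} (f : α × Bool → V)

/-- `l` is a path from `p` to `q`, where `f d` is the source of `d` and `f (opp d)` its target. -/
def IsPath : V → List (α × Bool) → V → Prop
  | p, [], q => p = q
  | p, d :: l, q => p = f d ∧ IsPath (f (opp d)) l q

@[simp] lemma isPath_nil (p q : V) : IsPath f p [] q ↔ p = q := Iff.rfl

@[simp] lemma isPath_cons (p q : V) (d : α × Bool) (l : List (α × Bool)) :
    IsPath f p (d :: l) q ↔ p = f d ∧ IsPath f (f (opp d)) l q := Iff.rfl

lemma isPath_append (p q : V) (l l' : List (α × Bool)) :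
    IsPath f p (l ++ l') q ↔ ∃ r, IsPath f p l r ∧ IsPath f r l' q := by
  induction l generalizing p with
  | nil => simp
  | cons d l ih =>
    simp only [List.cons_append, isPath_cons, ih]
    constructor
    · rintro ⟨h, r, h1, h2⟩
      exact ⟨r, ⟨h, h1⟩, h2⟩
    · rintro ⟨r, ⟨h, h1⟩, h2⟩
      exact ⟨h, r, h1, h2⟩

variable {f}

lemma IsPath.congr {f' : α × Bool → V} {p q : V} {l : List (α × Bool)} (h : IsPath f p l q)
    (h' : ∀ d ∈ l, f d = f' d ∧ f (opp d) = f' (opp d)) : IsPath f' p l q := by
  induction l generalizing p with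
  | nil => exact h
  | cons d l ih =>
    rw [isPath_cons] at h ⊢
    refine ⟨h.1.trans (h' d (by simp)).1, ?_⟩
    rw [← (h' d (by simp)).2]
    exact ih h.2 fun d hd => h' d (by simp [hd])

lemma isPath_of_forall {p : V} {l : List (α × Bool)} (h : ∀ d ∈ l, f d = p ∧ f (opp d) = p) :
    IsPath f p l p := by
  induction l with
  | nil => simp
  | cons d l ih =>
    rw [isPath_cons]
    refine ⟨(h d (by simp)).1.symm, ?_⟩
    rw [(h d (by simp)).2]
    exact ih fun d hd => h d (by simp [hd])

/-- A closed path can be rotated. -/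
lemma exists_isPath_rotate {l l' : List (α × Bool)} (h : ∃ p, IsPath f p (l ++ l') p) :
    ∃ p, IsPath f p (l' ++ l) p := by
  obtain ⟨p, hp⟩ := h
  obtain ⟨r, h1, h2⟩ := (isPath_append _ _ _ _ _).1 hp
  exact ⟨r, (isPath_append _ _ _ _ _).2 ⟨p, h2, h1⟩⟩

/-- If all sources and targets along a path have the value `p`... the target of the path. -/
lemma IsPath.eq_of_forall {p q : V} {l : List (α × Bool)} (h : IsPath f p l q) (v : V)
    (h' : ∀ d ∈ l, f (opp d) = v) (hp : p = v) : q = v := by
  induction l generalizing p with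
  | nil => exact (h.symm).trans hp
  | cons d l ih =>
    rw [isPath_cons] at h
    exact ih h.2 (fun d hd => h' d (by simp [hd])) (h' d (by simp))

end path

end Groth.Agent.Pi1.H6.SurfWord
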